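import Cfsg.Agent.Chevalley.Torus

/-! Relations among `n_p` and `h_r(t)` as matrix identities in the frozen vocabulary. -/

set_option autoImplicit false

namespace CfsgLib.ChevRelations
open Cfsg.Lie CfsgLib.Chevalley
variable {D : ChevalleyDatum} {F : Type*} [Field F]

theorem rel_hMul (hW : GoodWeyl D) (r : ℕ) (hr : r < D.nroots) (t₁ t₂ : F) (h₁ : t₁ ≠ 0) (h₂ : t₂ ≠ 0) :
    D.hMat F r t₁ * D.hMat F r t₂ = D.hMat F r (t₁ * t₂) := by
  have := congrArg Units.val (hT_mul (F := F) (⟨r, hr⟩ : Root D) (Units.mk0 t₁ h₁) (Units.mk0 t₂ h₂))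
  rw [Units.val_mul, coe_hT_eq_hMat hW, coe_hT_eq_hMat hW, coe_hT_eq_hMat hW] at this
  exact this

theorem rel_nMat (hW : GoodWeyl D) (i : ℕ) (hi : i < D.rank) :
    ∃ η : ℕ → ℤ, (∀ s < D.nroots, η s = 1 ∨ η s = -1) ∧ η (D.simple i) = -1 ∧ η (D.neg (D.simple i)) = -1 ∧
      (∀ s < D.nroots, η s * η (D.reflectRoot i s) = (-1) ^ (D.cartan i s).natAbs ∧ η s * η (D.neg s) = 1) ∧
      D.nMat F (D.simple i) 1 = Matrix.of (fun (row col : D.Idx) =>
        Sum.elim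
          (fun j' : Fin D.rank => Sum.elim
            (fun j : Fin D.rank => (if j' = j then (1 : F) else 0) - (if (j' : ℕ) = i then ((D.cartan j (D.simple i) : ℤ) : F) else 0))
            (fun _ => (0 : F)) col)
          (fun s' : Fin D.nroots => Sum.elim
            (fun _ => (0 : F))
            (fun s : Fin D.nroots => if (s' : ℕ) = D.reflectRoot i s then ((η s : ℤ) : F) else 0) col)
          row) := by
  let i' : Fin D.rank := ⟨i, hi⟩
  refine ⟨fun s => if h : s < D.nroots then eta D i' ⟨s, h⟩ else 1, fun s hs => ?_, ?_, ?_, fun s hs => ⟨?_, ?_⟩, ?_⟩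
  · simp only [dif_pos hs]
    rcases Int.mul_eq_one_iff_eq_one_or_neg_one.mp (hW.eta_sq i' ⟨s, hs⟩) with ⟨h, -⟩ | ⟨h, -⟩
    exacts [Or.inl h, Or.inr h]
  · simp only [dif_pos (hW.good.simple_lt hi)]
    exact hW.eta_pRoot i'
  · have h : D.neg (D.simple i) = ((pRoot hW i').rev : ℕ) := hW.good.neg_fin (pRoot hW i')
    rw [h]
    simp only [dif_pos (pRoot hW i').rev.isLt, Fin.eta, hW.eta_rev, hW.eta_pRoot]
  · have h : D.reflectRoot i s = (wPerm hW i' ⟨s, hs⟩ : ℕ) := (hW.wPerm_val i' ⟨s, hs⟩).symm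
    rw [h]
    simp only [dif_pos hs, dif_pos (wPerm hW i' ⟨s, hs⟩).isLt, Fin.eta]
    exact hW.eta_mul_wPerm i' ⟨s, hs⟩
  · have h : D.neg s = (((⟨s, hs⟩ : Root D).rev : Root D) : ℕ) := hW.good.neg_fin (⟨s, hs⟩ : Root D)
    rw [h]
    simp only [dif_pos hs, dif_pos (⟨s, hs⟩ : Root D).rev.isLt, Fin.eta, hW.eta_rev]
    exact hW.eta_sq i' ⟨s, hs⟩
  · rw [← show _ = D.nMat F (D.simple i) 1 from coe_nR hW i']
    ext a b
    rw [nR_apply hW, Matrix.of_apply]
    rcases a with j' | s' <;> rcases b with j | s <;>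
      simp [i', Fin.ext_iff, hW.wPerm_val] <;> rfl

theorem rel_nh (hW : GoodWeyl D) (i j : ℕ) (hi : i < D.rank) (hj : j < D.rank) (t : F) (ht : t ≠ 0) :
    D.nMat F (D.simple i) 1 * D.hMat F (D.simple j) t =
      D.hMat F (D.reflectRoot i (D.simple j)) t * D.nMat F (D.simple i) 1 := by
  let i' : Fin D.rank := ⟨i, hi⟩
  have e := nR_conj_hT (F := F) hW i' (pRoot hW ⟨j, hj⟩) (Units.mk0 t ht)
  rw [mul_inv_eq_iff_eq_mul] at e
  have := congrArg Units.val e
  rw [Units.val_mul, Units.val_mul, coe_nR hW, coe_hT_eq_hMat hW, coe_hT_eq_hMat hW, hW.wPerm_val] at this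
  exact this

end CfsgLib.ChevRelations
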